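import Cfsg.Agent.CosetEnum.MJ2.BData

/-! Certificate of a coset enumeration (generated data, owner: helper28). -/

set_option autoImplicit false
set_option maxRecDepth 1000000

namespace Cfsg.Agent.CosetEnum.MJ2B

def ck0 : CK := .cons 32 9 0x1202902480850c000629a00004500c80650c000868560005aa0004880008d328000c500c8001121200013a0d00001a80640520d0000870430004ca011020c380020d008802407221c000fe80c50c0004280640520840008680a4042240006f40420097800029a01900197800025a011008bc0001050048780001ba00100cbc0000ad0008024022f00005b4002009870002ca00100480440004480008680040120002680001940080040020010008004 ( .cons 32 1 0x21c000c287800011aac0002343280008d0680004343c000085010ab0000856500010a048000c6bc00005d6500034a0212100037c680001b40220397800050a0290041004802402203101c86500031a019018bc0001f5008bc0001d50149a0002fd0071870000fa0718700008a02902400025401a4840016e80014a01081040c2860003340320115600040a00b2f00000d40b30e0000d40085580001a86500006a039000020022031028ab000315 ( .cons 32 13 0x400c61c000828000624000e4162039000b200003100480240820001940016a80240120d00018a8144004086500062a0490089a0002cd0240009961c0006e80005b400b20152001201103c8024142005204101c8009900090048044032091000900110019000e20897800016a009008c38000b53400041a0210008104840016a806402043c0003150089a0002653400020a03903481250c0018280040120318700015a048000ae80840013500040c200902080a40320390004740008e801e40044062041018800406202100480e4016400008004062029028810400200930e0006341080009d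 ( .cons 12 9 0x840a202902c8304082009000000c20052059060810400840a208100c10208010814405205904c8002102480a40a20c100000000005c80240000c20090000011086000414090002cd ( .nil ))))

theorem part0 : chunks P L 108 ck0 0 32 = true := by decide +kernel

end Cfsg.Agent.CosetEnum.MJ2B
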